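import Groth.Agent.TildeKFlat.EW
import Groth.Agent.KFlat.ModSite
import Groth.Agent.KFlat.MapTot
import Groth.Agent.KFlat.Module
import Groth.Agent.DCohLib.Bridge
import Groth.Agent.SiteBase.FreeMod
import Groth.Prelude.Def_DCoh4

/-!
# The sheaf of a K-flat complex of modules is K-flat
-/

set_option autoImplicit false
set_option linter.style.haveILetI false
set_option linter.unusedSectionVars false
set_option backward.isDefEq.respectTransparency false

universe u

open CategoryTheory Limits Opposite TopologicalSpace AlgebraicGeometry MonoidalCategory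

noncomputable section

namespace Groth.Agent.TildeKFlat

open Groth.Agent.KFlat Groth.Agent.DCohLib

variable (R : CommRingCat.{u})

/-- The sheaf of rings of the spectrum. -/
abbrev specO : Sheaf (Opens.grothendieckTopology (Spec R).toTopCat) CommRingCat.{u} := (Spec R).sheaf

/-- The sheaf of a module. -/
abbrev til : ModuleCat.{u} R ⥤ ModSite.Mod (specO R) := tilde.functor R

variable (p : GrothendieckTopology.Point.{u} (Opens.grothendieckTopology (Spec R).toTopCat))

/-- The stalk of the underlying abelian sheaf. -/
abbrev stalkF : ModSite.Mod (specO R) ⥤ AddCommGrpCat.{u} :=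
  SheafOfModules.toSheaf (ModSite.ringSh (specO R)) ⋙ p.sheafFiber (A := AddCommGrpCat.{u})

instance preservesColimits_stalkF : PreservesColimitsOfSize.{u, u} (stalkF R p) := inferInstance

instance preservesFiniteLimits_stalkF : PreservesFiniteLimits (stalkF R p) := inferInstance

instance preservesFiniteColimits_stalkF : PreservesFiniteColimits (stalkF R p) := inferInstance

instance additive_stalkF : (stalkF R p).Additive :=
  haveI := preservesBinaryBiproducts_of_preservesBinaryCoproducts (stalkF R p)
  Functor.additive_of_preservesBinaryBiproducts _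

/-- The tensor product with sheaves of modules. -/
abbrev tensTil : ModSite.Mod (specO R) ⥤ ModuleCat.{u} R ⥤ ModSite.Mod (specO R) :=
  ModSite.tensorBi (specO R) ⋙ (Functor.whiskeringLeft _ _ _).obj (til R)

/-- Stalks of tensor products with sheaves of modules. -/
abbrev stalkTens : ModSite.Mod (specO R) ⥤ ModuleCat.{u} R ⥤ AddCommGrpCat.{u} :=
  tensTil R ⋙ (Functor.whiskeringRight _ _ _).obj (stalkF R p)

instance preservesColimits_til : PreservesColimitsOfSize.{u, u} (til R) :=
  tilde.adjunction.leftAdjoint_preservesColimits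

instance additive_til : (til R).Additive :=
  haveI : PreservesColimitsOfSize.{0, 0} (til R) := preservesColimitsOfSize_shrink _
  haveI := preservesBinaryBiproducts_of_preservesBinaryCoproducts (til R)
  Functor.additive_of_preservesBinaryBiproducts _

instance additive_tensTil_obj (L : ModSite.Mod (specO R)) : ((tensTil R).obj L).Additive :=
  inferInstanceAs (til R ⋙ (ModSite.tensorBi (specO R)).obj L).Additive

instance preservesColimits_tensTil_obj (L : ModSite.Mod (specO R)) :
    PreservesColimitsOfSize.{u, u} ((tensTil R).obj L) :=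
  inferInstanceAs (PreservesColimitsOfSize.{u, u} (til R ⋙ (ModSite.tensorBi (specO R)).obj L))

instance additive_stalkTens_obj (L : ModSite.Mod (specO R)) : ((stalkTens R p).obj L).Additive :=
  inferInstanceAs ((tensTil R).obj L ⋙ stalkF R p).Additive

instance preservesColimits_stalkTens_obj (L : ModSite.Mod (specO R)) :
    PreservesColimitsOfSize.{u, u} ((stalkTens R p).obj L) :=
  inferInstanceAs (PreservesColimitsOfSize.{u, u} ((tensTil R).obj L ⋙ stalkF R p))

instance additive_tensTil : (tensTil R).Additive := inferInstance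

instance additive_stalkTens : (stalkTens R p).Additive := inferInstance

/-- Stalks, with their module structure over the base ring. -/
abbrev stalkR : ModSite.Mod (specO R) ⥤ ModuleCat.{u} R := selfFunctor (stalkTens R p)

/-- The stalk functor to modules lifts the stalk functor. -/
def stalkRForget : stalkR R p ⋙ forget₂ (ModuleCat.{u} R) AddCommGrpCat.{u} ≅ stalkF R p :=
  (NatIso.ofComponents (fun L => Iso.refl _) fun f => by
    refine (Category.comp_id _).trans (Eq.trans ?_ (Category.id_comp _).symm)
    rfl : stalkR R p ⋙ forget₂ (ModuleCat.{u} R) AddCommGrpCat.{u} ≅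
      (ModSite.tensorBi (specO R)).flip.obj (ModSite.unit (specO R)) ⋙ stalkF R p) ≪≫
    Functor.isoWhiskerRight (Groth.Agent.ModTensor.tensorUnitRight (specO R)) (stalkF R p) ≪≫
      Functor.leftUnitor _

instance additive_stalkR : (stalkR R p).Additive := ⟨fun {X Y f g} => by
  refine (forget₂ (ModuleCat.{u} R) AddCommGrpCat.{u}).map_injective ?_
  refine Eq.trans ?_ ((forget₂ (ModuleCat.{u} R) AddCommGrpCat.{u}).map_add).symm
  exact congr_app ((stalkTens R p).map_add (f := f) (g := g)) (ModuleCat.of R R)⟩

/-- Tensor products of stalks with modules. -/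
abbrev tensStalk : ModSite.Mod (specO R) ⥤ ModuleCat.{u} R ⥤ ModuleCat.{u} R :=
  stalkR R p ⋙ curriedTensor (ModuleCat.{u} R)

instance additive_tensStalk_obj (L : ModSite.Mod (specO R)) : ((tensStalk R p).obj L).Additive :=
  inferInstanceAs (tensorLeft ((stalkR R p).obj L)).Additive

instance preservesSmallColimits_stalkF : PreservesColimitsOfSize.{0, 0} (stalkF R p) :=
  preservesColimitsOfSize_shrink.{0, u, 0, u} _

theorem acyclic_stalkR (L : CochainComplex (ModSite.Mod (specO R)) ℤ) (hL : ∀ i : ℤ, IsZero (L.homology i))
    (i : ℤ) : IsZero ((((stalkR R p).mapHomologicalComplex (ComplexShape.up ℤ)).obj L).homology i) := by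
  let H := ((stalkR R p).mapHomologicalComplex (ComplexShape.up ℤ)).obj L
  let Fg := forget₂ (ModuleCat.{u} R) AddCommGrpCat.{u}
  refine ((HomologicalComplex.exactAt_iff_isZero_homology _ i).1 ?_)
  rw [HomologicalComplex.exactAt_iff, ← ShortComplex.exact_map_iff_of_faithful _ Fg]
  have h : (((stalkF R p).mapHomologicalComplex (ComplexShape.up ℤ)).obj L).ExactAt i := by
    rw [HomologicalComplex.exactAt_iff]
    exact ((HomologicalComplex.exactAt_iff L i).1
      ((HomologicalComplex.exactAt_iff_isZero_homology L i).2 (hL i))).map (stalkF R p)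
  rw [HomologicalComplex.exactAt_iff] at h
  exact ShortComplex.exact_of_iso ((L.sc i).mapNatIso (stalkRForget R p)).symm h

/-- The stalks of the tensor product with a K-flat complex are acyclic. -/
theorem isZero_stalk (K : CochainComplex (ModuleCat.{u} R) ℤ)
    (hK : IsKFlatFor (curriedTensor (ModuleCat.{u} R)) K)
    (L : CochainComplex (ModSite.Mod (specO R)) ℤ) (hL : ∀ i : ℤ, IsZero (L.homology i)) (i : ℤ) :
    IsZero ((stalkF R p).obj (((tot (tensTil R) L).obj K).homology i)) := by
  let H := ((stalkR R p).mapHomologicalComplex (ComplexShape.up ℤ)).obj L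
  have h1 : ((tot (tensStalk R p) L).obj K).Acyclic :=
    hK H fun j => (HomologicalComplex.exactAt_iff_isZero_homology _ j).2 (acyclic_stalkR R p L hL j)
  let Fg := forget₂ (ModuleCat.{u} R) AddCommGrpCat.{u}
  let e₁ : (Fg.mapHomologicalComplex (ComplexShape.up ℤ)).obj ((tot (tensStalk R p) L).obj K) ≅
      (tot (stalkTens R p) L).obj K :=
    mapTotIso (F := tensStalk R p) (F' := stalkTens R p) (G := Fg)
      (biIso (stalkTens R p)) L K
  let e₂ : ((stalkF R p).mapHomologicalComplex (ComplexShape.up ℤ)).obj ((tot (tensTil R) L).obj K) ≅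
      (tot (stalkTens R p) L).obj K :=
    mapTotIso (F := tensTil R) (F' := stalkTens R p) (G := stalkF R p) (Iso.refl _) L K
  have h2 : (((stalkF R p).mapHomologicalComplex (ComplexShape.up ℤ)).obj ((tot (tensTil R) L).obj K)).ExactAt i := by
    have h3 : ((Fg.mapHomologicalComplex (ComplexShape.up ℤ)).obj ((tot (tensStalk R p) L).obj K)).ExactAt i := by
      rw [HomologicalComplex.exactAt_iff]
      exact ((HomologicalComplex.exactAt_iff _ i).1 (h1 i)).map Fg
    exact h3.of_iso (e₁ ≪≫ e₂.symm)
  have h4 := h2.isZero_homology
  exact h4.of_iso (((((tot (tensTil R) L).obj K).sc i).mapHomologyIso (stalkF R p)).symm)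

theorem isZero_of_stalks {M : ModSite.Mod (specO R)}
    (h : ∀ p : GrothendieckTopology.Point.{u} (Opens.grothendieckTopology (Spec R).toTopCat),
      IsZero ((stalkF R p).obj M)) : IsZero M := by
  rw [IsZero.iff_id_eq_zero]
  apply (SheafOfModules.toSheaf (ModSite.ringSh (specO R))).map_injective
  refine ((Opens.isConservativeFamilyOfPoints_pointsGrothendieckTopology (Spec R).toTopCat).jointlyFaithful
    AddCommGrpCat.{u}).map_injective fun Φ => ?_
  exact (h Φ.obj).eq_of_src _ _

/-- The sheaf of a K-flat complex of modules is K-flat. -/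
theorem isKFlat_til (K : CochainComplex (ModuleCat.{u} R) ℤ)
    (hK : IsKFlatFor (curriedTensor (ModuleCat.{u} R)) K) :
    ModSite.IsKFlat (((til R).mapHomologicalComplex (ComplexShape.up ℤ)).obj K) :=
  fun L hL i => isZero_of_stalks R fun p => isZero_stalk R p K hK L hL i

end Groth.Agent.TildeKFlat
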