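import Mathlib

/-!
# Functors of modules preserving colimits are tensor products
-/

set_option autoImplicit false
set_option linter.style.haveILetI false
set_option linter.unusedSectionVars false

universe u v u'

open CategoryTheory Limits TensorProduct MonoidalCategory

noncomputable section

namespace Groth.Agent.TildeKFlat

section Colimit

variable {A : Type u'} [Category.{v} A] {B : Type*} [Category B] {F G : A ⥤ B} (α : F ⟶ G)

theorem isIso_app_of_isColimit {J : Type*} [Category J] {K : J ⥤ A} {c : Cocone K} (hc : IsColimit c)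
    [PreservesColimit K F] [PreservesColimit K G] (h : ∀ j, IsIso (α.app (K.obj j))) :
    IsIso (α.app c.pt) := by
  haveI : ∀ j, IsIso ((Functor.whiskerLeft K α).app j) := h
  let w : K ⋙ F ≅ K ⋙ G := @asIso _ _ _ _ (Functor.whiskerLeft K α) (NatIso.isIso_of_isIso_app _)
  have e : α.app c.pt = (IsColimit.coconePointsIsoOfNatIso (isColimitOfPreserves F hc)
      (isColimitOfPreserves G hc) w).hom := by
    refine (isColimitOfPreserves F hc).hom_ext fun j => ?_
    exact (α.naturality (c.ι.app j)).trans (IsColimit.comp_coconePointsIsoOfNatIso_hom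
      (isColimitOfPreserves F hc) (isColimitOfPreserves G hc) w j).symm
  rw [e]
  infer_instance

end Colimit

variable {R : Type u} [CommRing R]

theorem isIso_of_isIso_app_self {B : Type*} [Category B] {F G : ModuleCat.{u} R ⥤ B}
    [PreservesColimitsOfSize.{u, u} F] [PreservesColimitsOfSize.{u, u} G]
    (α : F ⟶ G) (h : IsIso (α.app (ModuleCat.of R R))) : IsIso α := by
  haveI : PreservesColimitsOfSize.{0, 0} F := preservesColimitsOfSize_shrink _
  haveI : PreservesColimitsOfSize.{0, 0} G := preservesColimitsOfSize_shrink _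
  have hfree : ∀ ι : Type u, IsIso (α.app (ModuleCat.of R (ι →₀ R))) := fun ι =>
    isIso_app_of_isColimit α (ModuleCat.finsuppCoconeIsColimit R R ι) fun _ => h
  refine @NatIso.isIso_of_isIso_app _ _ _ _ _ _ α fun M => ?_
  let g : ModuleCat.of R (M →₀ R) ⟶ M :=
    ModuleCat.ofHom (Finsupp.linearCombination R (id : M → M))
  let ι' : Type u := LinearMap.ker g.hom
  let f : ModuleCat.of R (ι' →₀ R) ⟶ ModuleCat.of R (M →₀ R) :=
    ModuleCat.ofHom (Finsupp.linearCombination R (Subtype.val : ι' → (M →₀ R)))
  have hfg : f ≫ g = 0 := by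
    refine ModuleCat.hom_ext (Finsupp.lhom_ext' fun x => LinearMap.ext_ring ?_)
    show g.hom (f.hom (Finsupp.single x 1)) = 0
    rw [show f.hom (Finsupp.single x 1) = x.1 by simp [f]]
    exact x.2
  have hsurj : Function.Surjective g.hom := fun m => ⟨Finsupp.single m 1, by simp [g]⟩
  haveI : Epi g := (ModuleCat.epi_iff_surjective g).2 hsurj
  have hex : (ShortComplex.mk f g hfg).Exact :=
    (ShortComplex.moduleCat_exact_iff _).2 fun x hx =>
      ⟨Finsupp.single (⟨x, hx⟩ : ι') 1, by simp [f]⟩
  refine isIso_app_of_isColimit α (c := CokernelCofork.ofπ g hfg) hex.gIsCokernel ?_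
  rintro (_ | _)
  · exact hfree ι'
  · exact hfree M

variable (G : ModuleCat.{u} R ⥤ AddCommGrpCat.{u}) [G.Additive]

/-- The value of an additive functor on the ring. -/
def SelfCarrier : Type u := G.obj (ModuleCat.of R R)

instance : AddCommGroup (SelfCarrier G) := inferInstanceAs (AddCommGroup (G.obj (ModuleCat.of R R)))

/-- The action by endomorphisms. -/
instance : Module R (SelfCarrier G) where
  smul r x := G.map (ModuleCat.ofHom (r • (LinearMap.id : R →ₗ[R] R))) x
  one_smul x := by
    show G.map (ModuleCat.ofHom ((1 : R) • (LinearMap.id : R →ₗ[R] R))) x = x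
    rw [one_smul, show ModuleCat.ofHom (LinearMap.id : R →ₗ[R] R) = 𝟙 (ModuleCat.of R R) from rfl,
      G.map_id]
    rfl
  mul_smul r s x := by
    show G.map (ModuleCat.ofHom ((r * s) • (LinearMap.id : R →ₗ[R] R))) x =
      G.map (ModuleCat.ofHom (r • (LinearMap.id : R →ₗ[R] R))) (G.map (ModuleCat.ofHom (s • (LinearMap.id : R →ₗ[R] R))) x)
    rw [← ConcreteCategory.comp_apply, ← G.map_comp]
    refine congrArg (fun t => G.map t x) (ModuleCat.hom_ext ?_)
    ext
    simp [mul_assoc]
  smul_zero r := map_zero _
  smul_add r x y := map_add _ x y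
  add_smul r s x := by
    show G.map (ModuleCat.ofHom ((r + s) • (LinearMap.id : R →ₗ[R] R))) x = _
    rw [add_smul, show ModuleCat.ofHom (r • (LinearMap.id : R →ₗ[R] R) + s • LinearMap.id) =
      ModuleCat.ofHom (r • (LinearMap.id : R →ₗ[R] R)) + ModuleCat.ofHom (s • LinearMap.id) from rfl, G.map_add]
    rfl
  zero_smul x := by
    show G.map (ModuleCat.ofHom ((0 : R) • (LinearMap.id : R →ₗ[R] R))) x = 0
    rw [zero_smul, show ModuleCat.ofHom (0 : R →ₗ[R] R) = 0 from rfl, G.map_zero]
    rfl

/-- The value of an additive functor on the ring, as a module. -/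
abbrev selfMod : ModuleCat.{u} R := ModuleCat.of R (SelfCarrier G)

theorem selfMod_smul (r : R) (x : selfMod G) :
    r • x = G.map (ModuleCat.ofHom (r • (LinearMap.id : R →ₗ[R] R))) (x : G.obj (ModuleCat.of R R)) :=
  rfl

omit [G.Additive] in
theorem map_map_apply {A B C' : ModuleCat.{u} R} {f : A ⟶ B} {g : B ⟶ C'} {h : A ⟶ C'} (e : f ≫ g = h)
    (x : G.obj A) : G.map g (G.map f x) = G.map h x :=
  e ▸ (ConcreteCategory.congr_hom (G.map_comp f g) x).symm

/-- The map from the tensor product. -/
def evalT (M : ModuleCat.{u} R) : (selfMod G : Type u) ⊗[R] M →+ G.obj M :=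
  TensorProduct.liftAddHom
    (AddMonoidHom.mk' (fun x : selfMod G => AddMonoidHom.mk'
        (fun m : M => (G.map (ModuleCat.ofHom (LinearMap.toSpanSingleton R M m)) (x : G.obj (ModuleCat.of R R))))
        fun m n => by
          rw [LinearMap.toSpanSingleton_add, show ModuleCat.ofHom (LinearMap.toSpanSingleton R M m + LinearMap.toSpanSingleton R M n) =
            ModuleCat.ofHom (LinearMap.toSpanSingleton R M m) + ModuleCat.ofHom (LinearMap.toSpanSingleton R M n) from rfl,
            G.map_add]
          rfl)
      fun x y => AddMonoidHom.ext fun m => map_add (G.map (ModuleCat.ofHom (LinearMap.toSpanSingleton R M m))).hom x y)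
    fun r x m => by
      show G.map (ModuleCat.ofHom (LinearMap.toSpanSingleton R M m))
          (G.map (ModuleCat.ofHom (r • (LinearMap.id : R →ₗ[R] R))) (x : G.obj (ModuleCat.of R R))) =
        G.map (ModuleCat.ofHom (LinearMap.toSpanSingleton R M (r • m))) (x : G.obj (ModuleCat.of R R))
      exact map_map_apply G (by ext; simp [smul_smul]) _

theorem evalT_tmul (M : ModuleCat.{u} R) (x : selfMod G) (m : M) :
    evalT G M (x ⊗ₜ m) = G.map (ModuleCat.ofHom (LinearMap.toSpanSingleton R M m)) (x : G.obj (ModuleCat.of R R)) :=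
  rfl

/-- Tensoring with the value on the ring. -/
abbrev tensSelf : ModuleCat.{u} R ⥤ AddCommGrpCat.{u} :=
  (curriedTensor (ModuleCat.{u} R)).obj (selfMod G) ⋙ forget₂ (ModuleCat.{u} R) AddCommGrpCat.{u}

/-- The comparison with the tensor product. -/
def evalNat : tensSelf G ⟶ G where
  app M := AddCommGrpCat.ofHom (evalT G M)
  naturality {M N} f := by
    refine AddCommGrpCat.hom_ext (AddMonoidHom.ext fun z => ?_)
    change (selfMod G : Type u) ⊗[R] M at z
    show evalT G N (LinearMap.lTensor (selfMod G) f.hom z) = G.map f (evalT G M z)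
    induction z using TensorProduct.induction_on with
    | zero => simp
    | tmul x m =>
      rw [LinearMap.lTensor_tmul, evalT_tmul, evalT_tmul]
      exact (map_map_apply G (by ext; simp) _).symm
    | add a b ha hb => simp only [map_add, ha, hb]

theorem bijective_evalT_self : Function.Bijective (evalT G (ModuleCat.of R R)) := by
  have h : ∀ z, evalT G (ModuleCat.of R R) z = (TensorProduct.rid R (selfMod G) z : selfMod G) := fun z => by
    induction z using TensorProduct.induction_on with
    | zero => exact (map_zero _).trans (map_zero (TensorProduct.rid R (selfMod G))).symm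
    | tmul x r =>
      rw [evalT_tmul, TensorProduct.rid_tmul, selfMod_smul]
      refine congrArg (fun t => G.map t (x : G.obj (ModuleCat.of R R))) (ModuleCat.hom_ext ?_)
      ext
      simp
    | add a b ha hb => rw [map_add, ha, hb, map_add]; rfl
  rw [show ⇑(evalT G (ModuleCat.of R R)) = ⇑(TensorProduct.rid R (selfMod G)) from funext h]
  exact (TensorProduct.rid R (selfMod G)).bijective

theorem isIso_evalNat [PreservesColimitsOfSize.{u, u} G] : IsIso (evalNat G) := by
  haveI : PreservesColimitsOfSize.{u, u} ((curriedTensor (ModuleCat.{u} R)).obj (selfMod G)) :=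
    inferInstanceAs (PreservesColimitsOfSize.{u, u} (tensorLeft (selfMod G)))
  refine isIso_of_isIso_app_self (evalNat G) ?_
  exact (ConcreteCategory.isIso_iff_bijective _).2 (bijective_evalT_self G)

section Bi

variable {C₁ : Type u'} [Category.{v} C₁] (B : C₁ ⥤ ModuleCat.{u} R ⥤ AddCommGrpCat.{u}) [∀ X, (B.obj X).Additive]

/-- The map of values on the ring. -/
def selfLin {X Y : C₁} (f : X ⟶ Y) : SelfCarrier (B.obj X) →ₗ[R] SelfCarrier (B.obj Y) where
  toFun x := (B.map f).app (ModuleCat.of R R) (x : (B.obj X).obj (ModuleCat.of R R))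
  map_add' x y := map_add ((B.map f).app (ModuleCat.of R R)).hom x y
  map_smul' r x := ConcreteCategory.congr_hom
    ((B.map f).naturality (ModuleCat.ofHom (r • (LinearMap.id : R →ₗ[R] R)))) x

/-- The values on the ring, as a functor. -/
def selfFunctor : C₁ ⥤ ModuleCat.{u} R where
  obj X := selfMod (B.obj X)
  map f := ModuleCat.ofHom (selfLin B f)
  map_id X := by
    refine ModuleCat.hom_ext (LinearMap.ext fun x => ?_)
    exact congr(($(B.map_id X)).app (ModuleCat.of R R) x)
  map_comp {X Y Z} f g := by
    refine ModuleCat.hom_ext (LinearMap.ext fun x => ?_)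
    exact congr(($(B.map_comp f g)).app (ModuleCat.of R R) x)

/-- A bifunctor preserving colimits in the module is the tensor product with its values on the ring. -/
def biIso [∀ X, PreservesColimitsOfSize.{u, u} (B.obj X)] :
    selfFunctor B ⋙ curriedTensor (ModuleCat.{u} R) ⋙
      (Functor.whiskeringRight _ _ _).obj (forget₂ (ModuleCat.{u} R) AddCommGrpCat.{u}) ≅ B :=
  NatIso.ofComponents (fun X => @asIso _ _ _ _ (evalNat (B.obj X)) (isIso_evalNat (B.obj X))) fun {X Y} f => by
    refine NatTrans.ext (funext fun M => AddCommGrpCat.hom_ext (AddMonoidHom.ext fun z => ?_))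
    change (selfMod (B.obj X) : Type u) ⊗[R] M at z
    show evalT (B.obj Y) M (LinearMap.rTensor M (selfLin B f) z) = (B.map f).app M (evalT (B.obj X) M z)
    induction z using TensorProduct.induction_on with
    | zero => simp
    | tmul x m =>
      rw [LinearMap.rTensor_tmul, evalT_tmul, evalT_tmul]
      exact (ConcreteCategory.congr_hom ((B.map f).naturality (ModuleCat.ofHom (LinearMap.toSpanSingleton R M m))) x).symm
    | add a b ha hb => simp only [map_add, ha, hb]

end Bi

end Groth.Agent.TildeKFlat
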